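import Mathlib

/-!
# Graded Lie rings as direct sums (abstract construction)

`ι` any index type with an addition, `A i` abelian groups with a graded biadditive product
(`DirectSum.GNonUnitalNonAssocSemiring A`).  If the homogeneous identities `a * a = 0`,
`a * b + b * a = 0` and Jacobi hold (stated inside the direct sum, so that no casts are needed), the
direct sum is a Lie ring for `⁅x, y⁆ := x * y`.
-/

set_option autoImplicit false

namespace Cfsg.Agent.Lib.Helper31.GrLie

universe u v

open DirectSum

variable {ι : Type v} [DecidableEq ι] [Add ι] (A : ι → Type u) [∀ i, AddCommGroup (A i)]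
  [DirectSum.GNonUnitalNonAssocSemiring A]

/-- the homogeneous Lie identities -/
structure IsGrLie : Prop where
  self : ∀ (i : ι) (a : A i), DirectSum.of A (i + i) (GradedMonoid.GMul.mul a a) = 0
  anti : ∀ (i j : ι) (a : A i) (b : A j),
    DirectSum.of A (i + j) (GradedMonoid.GMul.mul a b) + DirectSum.of A (j + i) (GradedMonoid.GMul.mul b a) = 0
  jac : ∀ (i j k : ι) (a : A i) (b : A j) (c : A k),
    DirectSum.of A (i + (j + k)) (GradedMonoid.GMul.mul a (GradedMonoid.GMul.mul b c)) =
      DirectSum.of A ((i + j) + k) (GradedMonoid.GMul.mul (GradedMonoid.GMul.mul a b) c) +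
      DirectSum.of A (j + (i + k)) (GradedMonoid.GMul.mul b (GradedMonoid.GMul.mul a c))

variable {A}

theorem mul_anti (h : IsGrLie A) (x y : ⨁ i, A i) : x * y + y * x = 0 := by
  induction x using DirectSum.induction_on with
  | zero => simp
  | of i a =>
    induction y using DirectSum.induction_on with
    | zero => simp
    | of j b => rw [DirectSum.of_mul_of, DirectSum.of_mul_of]; exact h.anti i j a b
    | add y z hy hz =>
      rw [mul_add, add_mul, add_add_add_comm, hy, hz, add_zero]
  | add x z hx hz =>
    rw [mul_add, add_mul, add_add_add_comm, hx, hz, add_zero]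

theorem mul_self_zero (h : IsGrLie A) (x : ⨁ i, A i) : x * x = 0 := by
  induction x using DirectSum.induction_on with
  | zero => simp
  | of i a => rw [DirectSum.of_mul_of]; exact h.self i a
  | add x z hx hz =>
    rw [mul_add, add_mul, add_mul, hx, hz, zero_add, add_zero, add_comm]
    exact mul_anti h x z

theorem mul_jac (h : IsGrLie A) (x y z : ⨁ i, A i) : x * (y * z) = (x * y) * z + y * (x * z) := by
  induction x using DirectSum.induction_on with
  | zero => simp
  | of i a =>
    induction y using DirectSum.induction_on with
    | zero => simp
    | of j b =>
      induction z using DirectSum.induction_on with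
      | zero => simp
      | of k c =>
        simp only [DirectSum.of_mul_of]
        exact h.jac i j k a b c
      | add z w hz hw =>
        simp only [mul_add]
        rw [hz, hw]
        abel
    | add y w hy hw =>
      simp only [mul_add, add_mul]
      rw [hy, hw]
      abel
  | add x w hx hw =>
    simp only [mul_add, add_mul]
    rw [hx, hw]
    abel

/-- the Lie ring structure on the direct sum -/
@[reducible] noncomputable def lieRing (h : IsGrLie A) : LieRing (⨁ i, A i) where
  bracket x y := x * y
  add_lie x y z := add_mul x y z
  lie_add x y z := mul_add x y z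
  lie_self x := mul_self_zero h x
  leibniz_lie x y z := mul_jac h x y z

end Cfsg.Agent.Lib.Helper31.GrLie
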